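import Cfsg.Agent.H230.XZ.StIdx

/-!
# S4879, row `E₈`, `p = 11`: the orders of the parabolic subgroups (helper970)

`PE K J` : the parabolic subgroup of `E₈(q)`, `q = |K|`.
* `not_dvd_ten` : `q` of order 10 modulo 11: `11 ∤ |P_J|` if some node of `D₆ = {1, …, 6}` is not in `J`;
* `not_dvd_five` : `q` of order 5 modulo 11: `11 ∤ |P_J|` if `J` is contained in one of the listed sets (no `A₄`);
* `order_cases` : if `11³ ∤ |E₈(q)|` and `11 ∣ |E₈(q)|` then the order of `q` is 5 or 10.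
-/

set_option autoImplicit false
set_option linter.unusedSectionVars false

namespace Cfsg.Agent.H970.LB.E8

open CoxeterSystem Cfsg.Agent.ChevalleyStructure.CoxeterGeom Cfsg.Agent.Tits.Roots Cfsg.Agent.Tits.Core
  Cfsg.Agent.Tits.RootComb Cfsg.Agent.Nodes.Reps Cfsg.Agent.Nodes.BNOf
  Cfsg.Agent.Nodes.StabComb Cfsg.Agent.Nodes.Bruhat Cfsg.Agent.Nodes.LeviDec Cfsg.Agent.H35.Poin
  Cfsg.Agent.H35.PoinNum Cfsg.Agent.H35.ExcIdx Cfsg.Agent.H134.StrP
  Cfsg.Agent.ChevalleyStructure.CoxeterGeomTypes Cfsg.Lie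
open Cfsg.Agent.Nodes.RGDChev Cfsg.Agent.ChevalleyStructure.NPerm Cfsg.Agent.ChevalleyStructure
open Cfsg.Agent.H116.RatB0

universe u

/-- the parabolic subgroups of `E₈(K)` -/
abbrev PE (K : Type u) [Field K] (J : Set (Fin 8)) : Subgroup ↥(chevE8.group K) :=
  PJ CoxeterMatrix.E₈.toCoxeterSystem hpE8.isCartan (TT chevE8 K) (XX chevE8 8 K) J

variable (K : Type u) [Field K] [Fintype K]

theorem PE_mono {J J' : Set (Fin 8)} (hJ : J ⊆ J') : PE K J ≤ PE K J' := by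
  obtain ⟨r, f, _, hr, hf, hK⟩ := exists_pow K
  have : Fact r.Prime := ⟨hr⟩
  have hfin := finite_W hpE8 CoxeterMatrix.E₈.toCoxeterSystem
  have hR := rgd (K := K) hpE8 CoxeterMatrix.E₈.toCoxeterSystem r
  intro x hx
  obtain ⟨w, hw, hc⟩ := (mem_PJ_iff_cell hR).1 hx
  exact (mem_PJ_iff_cell hR).2 ⟨w, Subgroup.closure_mono (Set.image_mono hJ) hw, hc⟩

theorem card_group : Nat.card ↥(chevE8.group K) = Fintype.card K ^ 120 * pr (Fintype.card K) [2, 8, 12, 14, 18, 20, 24, 30] := by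
  have h3 := Cfsg.Agent.S1065.result (F := K) rfl
  simp only [pr_cons, pr_nil]
  rw [h3]
  ring

theorem card_pos_group : 0 < Nat.card ↥(chevE8.group K) := by
  rw [card_group K]
  refine Nat.mul_pos (pow_pos Fintype.card_pos _) (pr_pos Fintype.one_lt_card _ (by decide))

theorem finite_E8 : Finite ↥(chevE8.group K) := Nat.finite_of_card_ne_zero (card_pos_group K).ne'

/-- the order of `P_J` -/
theorem card_PE {J : List (Fin 8)} {D : List ℕ} (hJ : ∀ (_ : Finite CoxeterMatrix.E₈.Group) (r : ℕ),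
    RGD CoxeterMatrix.E₈.toCoxeterSystem hpE8.isCartan r (TT chevE8 K)
      (fun i => (⟨nn hpE8 K i, nn_mem_group hpE8 i⟩ : ↥(chevE8.group K))) (XX chevE8 8 K) →
    2 ≤ Fintype.card K → (∀ i, Nat.card (XX chevE8 8 K (sr i)) = Fintype.card K) →
    ParOrd CoxeterMatrix.E₈.toCoxeterSystem hpE8.isCartan (TT chevE8 K) (XX chevE8 8 K) (Fintype.card K) 8 J D) :
    Nat.card (PE K {j | j ∈ J}) = Fintype.card K ^ 120 * pr (Fintype.card K) D := by
  obtain ⟨r, f, _, hr, hf, hK⟩ := exists_pow K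
  have : Fact r.Prime := ⟨hr⟩
  have hfin := finite_W hpE8 CoxeterMatrix.E₈.toCoxeterSystem
  have hfg : Finite ↥(chevE8.group K) := Nat.finite_of_card_ne_zero (card_pos_group K).ne'
  have hR := rgd (K := K) hpE8 CoxeterMatrix.E₈.toCoxeterSystem r
  have hc : ∀ i, Nat.card (XX chevE8 8 K (sr i)) = Fintype.card K := fun i => by
    rw [card_XX hpE8 K CoxeterMatrix.E₈.toCoxeterSystem (isRoot_sr _ _ i), Nat.card_eq_fintype_card]
  have h1 := hJ hfin r hR Fintype.one_lt_card hc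
  rw [hK] at h1
  have h2 := idx_of_parOrd hpE8 K hr hf hK CoxeterMatrix.E₈.toCoxeterSystem (g := 1) (one_dvd _)
    (by rw [← hK]; exact Cfsg.Agent.S1035.result rfl (chevE8, 1) (by simp))
    (dS := [2, 8, 12, 14, 18, 20, 24, 30]) (by decide)
    ⟨f * 120, by rw [one_mul, card_group K, hK, pow_mul]⟩ h1
  rw [← hK] at h2
  have h3 := Subgroup.card_mul_index (PE K {j | j ∈ J})
  rw [card_group K, ← h2] at h3
  have h4 : 0 < (PE K {j | j ∈ J}).index := Nat.pos_of_ne_zero Subgroup.index_ne_zero_of_finite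
  refine Nat.eq_of_mul_eq_mul_right h4 ?_
  rw [h3]
  ring

/-- no factor is divisible by `p` -/
theorem not_dvd_pr' {p q : ℕ} [Fact p.Prime] (hq : 1 ≤ q) {D : List ℕ}
    (h : ∀ d ∈ D, ¬ orderOf (q : ZMod p) ∣ d) : ¬ p ∣ pr q D := by
  intro hd
  have h1 := cnt_pos_of_dvd hd hq
  unfold cnt at h1
  obtain ⟨d, hd1, hd2⟩ := List.countP_pos_iff.1 h1
  exact h d hd1 (of_decide_eq_true hd2)

variable [Fact (Nat.Prime 11)]

theorem not_dvd_card_q {d : ℕ} (hd : orderOf ((Fintype.card K : ℕ) : ZMod 11) = d) (h0 : d ≠ 0) :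
    ¬ 11 ∣ Fintype.card K := by
  intro h1
  rw [(ZMod.natCast_eq_zero_iff _ _).2 h1] at hd
  have h2 := pow_orderOf_eq_one (0 : ZMod 11)
  rw [hd, zero_pow h0] at h2
  exact zero_ne_one h2

theorem not_dvd_of_parOrd {d : ℕ} (hd : orderOf ((Fintype.card K : ℕ) : ZMod 11) = d) (h0 : d ≠ 0)
    {J : List (Fin 8)} {D : List ℕ} (hJ : ∀ (_ : Finite CoxeterMatrix.E₈.Group) (r : ℕ),
    RGD CoxeterMatrix.E₈.toCoxeterSystem hpE8.isCartan r (TT chevE8 K)
      (fun i => (⟨nn hpE8 K i, nn_mem_group hpE8 i⟩ : ↥(chevE8.group K))) (XX chevE8 8 K) →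
    2 ≤ Fintype.card K → (∀ i, Nat.card (XX chevE8 8 K (sr i)) = Fintype.card K) →
    ParOrd CoxeterMatrix.E₈.toCoxeterSystem hpE8.isCartan (TT chevE8 K) (XX chevE8 8 K) (Fintype.card K) 8 J D)
    (hD : ∀ e ∈ D, ¬ d ∣ e) {J' : Set (Fin 8)} (hJ' : ∀ j ∈ J', j ∈ J) : ¬ 11 ∣ Nat.card (PE K J') := by
  intro h1
  have h2 : 11 ∣ Nat.card (PE K {j | j ∈ J}) := h1.trans (Subgroup.card_dvd_of_le (PE_mono K hJ'))
  rw [card_PE K hJ] at h2
  have hp : Nat.Prime 11 := Fact.out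
  rcases (Nat.Prime.dvd_mul hp).1 h2 with h3 | h3
  · exact not_dvd_card_q K hd h0 (hp.dvd_of_dvd_pow h3)
  · exact not_dvd_pr' Fintype.card_pos (by rw [hd]; exact hD) h3

/-- **`q` of order 10 modulo 11.** -/
theorem not_dvd_ten (hd : orderOf ((Fintype.card K : ℕ) : ZMod 11) = 10) {J : Set (Fin 8)} (k : Fin 8) (hk : k ∉ J)
    (h0 : k ≠ 0) (h7 : k ≠ 7) : ¬ 11 ∣ Nat.card (PE K J) := by
  have hJ : ∀ j ∈ J, j ≠ k := by
    rintro j hj rfl
    exact hk hj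
  fin_cases k
  · exact absurd rfl h0
  · exact not_dvd_of_parOrd K hd (by norm_num) (fun _ _ R h2 hs => oE8_0234567 R h2 hs) (by decide)
      fun j hj => (by decide : ∀ j : Fin 8, j ≠ 1 → j ∈ [0, 2, 3, 4, 5, 6, 7]) j (hJ j hj)
  · exact not_dvd_of_parOrd K hd (by norm_num) (fun _ _ R h2 hs => oE8_0134567 R h2 hs) (by decide)
      fun j hj => (by decide : ∀ j : Fin 8, j ≠ 2 → j ∈ [0, 1, 3, 4, 5, 6, 7]) j (hJ j hj)
  · exact not_dvd_of_parOrd K hd (by norm_num) (fun _ _ R h2 hs => oE8_0124567 R h2 hs) (by decide)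
      fun j hj => (by decide : ∀ j : Fin 8, j ≠ 3 → j ∈ [0, 1, 2, 4, 5, 6, 7]) j (hJ j hj)
  · exact not_dvd_of_parOrd K hd (by norm_num) (fun _ _ R h2 hs => oE8_0123567 R h2 hs) (by decide)
      fun j hj => (by decide : ∀ j : Fin 8, j ≠ 4 → j ∈ [0, 1, 2, 3, 5, 6, 7]) j (hJ j hj)
  · exact not_dvd_of_parOrd K hd (by norm_num) (fun _ _ R h2 hs => oE8_0123467 R h2 hs) (by decide)
      fun j hj => (by decide : ∀ j : Fin 8, j ≠ 5 → j ∈ [0, 1, 2, 3, 4, 6, 7]) j (hJ j hj)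
  · exact not_dvd_of_parOrd K hd (by norm_num) (fun _ _ R h2 hs => oE8_0123457 R h2 hs) (by decide)
      fun j hj => (by decide : ∀ j : Fin 8, j ≠ 6 → j ∈ [0, 1, 2, 3, 4, 5, 7]) j (hJ j hj)
  · exact absurd rfl h7

/-! ### order 5 -/

theorem p_67 : PathOK CoxeterMatrix.E₈ [1, 2, 3, 4, 6, 7] [6, 7] [1, 2, 3, 4] 6 := by constructor <;> decide +kernel

theorem p_567 : PathOK CoxeterMatrix.E₈ [0, 2, 3, 5, 6, 7] [0, 2, 3] [5, 6, 7] 0 := by constructor <;> decide +kernel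

theorem p_134 : PathOK CoxeterMatrix.E₈ [1, 3, 4] [1, 3, 4] [] 1 := by constructor <;> decide +kernel

theorem p_0134 : PathOK CoxeterMatrix.E₈ [0, 1, 3, 4] [0] [1, 3, 4] 0 := by constructor <;> decide +kernel

theorem p_013467 : PathOK CoxeterMatrix.E₈ [0, 1, 3, 4, 6, 7] [6, 7] [0, 1, 3, 4] 6 := by constructor <;> decide +kernel

theorem p_456 : PathOK CoxeterMatrix.E₈ [4, 5, 6] [4, 5, 6] [] 4 := by constructor <;> decide +kernel

theorem p_1456 : PathOK CoxeterMatrix.E₈ [1, 4, 5, 6] [1] [4, 5, 6] 1 := by constructor <;> decide +kernel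

theorem p_012456 : PathOK CoxeterMatrix.E₈ [0, 1, 2, 4, 5, 6] [0, 2] [1, 4, 5, 6] 0 := by constructor <;> decide +kernel

theorem p_1567 : PathOK CoxeterMatrix.E₈ [1, 5, 6, 7] [1] [5, 6, 7] 1 := by constructor <;> decide +kernel

theorem p_012567 : PathOK CoxeterMatrix.E₈ [0, 1, 2, 5, 6, 7] [0, 2] [1, 5, 6, 7] 0 := by constructor <;> decide +kernel

theorem p_45 : PathOK CoxeterMatrix.E₈ [4, 5] [4, 5] [] 4 := by constructor <;> decide +kernel

theorem p_457 : PathOK CoxeterMatrix.E₈ [4, 5, 7] [7] [4, 5] 7 := by constructor <;> decide +kernel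

theorem p_1457 : PathOK CoxeterMatrix.E₈ [1, 4, 5, 7] [1] [4, 5, 7] 1 := by constructor <;> decide +kernel

theorem p_012457 : PathOK CoxeterMatrix.E₈ [0, 1, 2, 4, 5, 7] [0, 2] [1, 4, 5, 7] 0 := by constructor <;> decide +kernel

/-- the maximal sets of nodes without `A₄` (up to those not used) -/
def maxFive : List (List (Fin 8)) := [[1, 2, 3, 4, 6, 7], [0, 2, 3, 5, 6, 7], [0, 1, 3, 4, 6, 7], [0, 1, 2, 4, 5, 6],
  [0, 1, 2, 5, 6, 7], [0, 1, 2, 4, 5, 7]]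

/-- **`q` of order 5 modulo 11.** -/
theorem not_dvd_five (hd : orderOf ((Fintype.card K : ℕ) : ZMod 11) = 5) {J : Set (Fin 8)} {L : List (Fin 8)}
    (hL : L ∈ maxFive) (hJ : ∀ j ∈ J, j ∈ L) : ¬ 11 ∣ Nat.card (PE K J) := by
  simp only [maxFive, List.mem_cons, List.not_mem_nil, or_false] at hL
  rcases hL with rfl | rfl | rfl | rfl | rfl | rfl
  · exact not_dvd_of_parOrd K hd (by norm_num) (D := [1, 1, 2, 4, 4, 6, 2, 3])
      (fun _ _ R h2 hs => ParOrd.path (oE8_1234 R h2 hs) R h2 hs p_67 (by decide)) (by decide) hJ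
  · exact not_dvd_of_parOrd K hd (by norm_num) (D := [1, 1, 2, 3, 4, 2, 3, 4])
      (fun _ _ R h2 hs => ParOrd.path (oE8_567 R h2 hs) R h2 hs p_567 (by decide)) (by decide) hJ
  · exact not_dvd_of_parOrd K hd (by norm_num) (D := [1, 1, 2, 3, 4, 2, 2, 3])
      (fun _ _ R h2 hs => ParOrd.path (ParOrd.path (D := [1, 1, 1, 1, 2, 2, 3, 4]) (ParOrd.path
        (D := [1, 1, 1, 1, 1, 2, 3, 4]) (ParOrd.nil R) R h2 hs p_134 (by decide))
        R h2 hs p_0134 (by decide)) R h2 hs p_013467 (by decide)) (by decide) hJ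
  · exact not_dvd_of_parOrd K hd (by norm_num) (D := [1, 1, 2, 3, 4, 2, 2, 3])
      (fun _ _ R h2 hs => ParOrd.path (ParOrd.path (D := [1, 1, 1, 1, 2, 2, 3, 4]) (ParOrd.path
        (D := [1, 1, 1, 1, 1, 2, 3, 4]) (ParOrd.nil R) R h2 hs p_456 (by decide))
        R h2 hs p_1456 (by decide)) R h2 hs p_012456 (by decide)) (by decide) hJ
  · exact not_dvd_of_parOrd K hd (by norm_num) (D := [1, 1, 2, 3, 4, 2, 2, 3])
      (fun _ _ R h2 hs => ParOrd.path (ParOrd.path (D := [1, 1, 1, 1, 2, 2, 3, 4]) (oE8_567 R h2 hs)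
        R h2 hs p_1567 (by decide)) R h2 hs p_012567 (by decide)) (by decide) hJ
  · exact not_dvd_of_parOrd K hd (by norm_num) (D := [1, 1, 2, 3, 2, 2, 2, 3])
      (fun _ _ R h2 hs => ParOrd.path (ParOrd.path (D := [1, 1, 1, 1, 2, 2, 2, 3]) (ParOrd.path
        (D := [1, 1, 1, 1, 1, 2, 2, 3]) (ParOrd.path (D := [1, 1, 1, 1, 1, 1, 2, 3]) (ParOrd.nil R) R h2 hs p_45 (by decide))
        R h2 hs p_457 (by decide)) R h2 hs p_1457 (by decide)) R h2 hs p_012457 (by decide)) (by decide) hJ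

/-! ### the order of `q` -/

theorem dvd_sub_of {q d k : ℕ} (hq : 1 ≤ q) (hd : orderOf (q : ZMod 11) = d) (hk : d ∣ k) : 11 ∣ q ^ k - 1 := by
  rw [← ZMod.natCast_eq_zero_iff, Nat.cast_sub (Nat.one_le_pow _ _ hq), Nat.cast_pow, Nat.cast_one, sub_eq_zero,
    ← orderOf_dvd_iff_pow_eq_one, hd]
  exact hk

/-- **The order of `q` modulo 11.** -/
theorem order_cases (h2 : 11 ∣ Nat.card ↥(chevE8.group K)) (h3 : ¬ 11 ^ 3 ∣ Nat.card ↥(chevE8.group K)) :
    orderOf ((Fintype.card K : ℕ) : ZMod 11) = 5 ∨ orderOf ((Fintype.card K : ℕ) : ZMod 11) = 10 := by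
  have hp : Nat.Prime 11 := Fact.out
  have hq : 1 ≤ Fintype.card K := Fintype.card_pos
  have hnq : ¬ 11 ∣ Fintype.card K := by
    intro h4
    apply h3
    rw [card_group K]
    exact Dvd.dvd.mul_right ((pow_dvd_pow 11 (by norm_num)).trans (pow_dvd_pow_of_dvd h4 120)) _
  have h5 : ((Fintype.card K : ℕ) : ZMod 11) ≠ 0 := fun h => hnq ((ZMod.natCast_eq_zero_iff _ _).1 h)
  have h6 : orderOf ((Fintype.card K : ℕ) : ZMod 11) ∣ 10 :=
    orderOf_dvd_of_pow_eq_one (ZMod.pow_card_sub_one_eq_one h5)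
  have h7 : orderOf ((Fintype.card K : ℕ) : ZMod 11) ∈ Nat.divisors 10 := Nat.mem_divisors.2 ⟨h6, by norm_num⟩
  have h8 : Nat.divisors 10 = {1, 2, 5, 10} := by decide
  rw [h8] at h7
  simp only [Finset.mem_insert, Finset.mem_singleton] at h7
  have key : ∀ d, orderOf ((Fintype.card K : ℕ) : ZMod 11) = d → d ∣ 2 → False := by
    intro d hd hd2
    apply h3
    rw [card_group K]
    simp only [pr_cons, pr_nil]
    have e1 := dvd_sub_of hq hd (hd2.trans (by norm_num : 2 ∣ 2))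
    have e2 := dvd_sub_of hq hd (hd2.trans (by norm_num : 2 ∣ 8))
    have e3 := dvd_sub_of hq hd (hd2.trans (by norm_num : 2 ∣ 12))
    refine Dvd.dvd.mul_left ?_ _
    rw [← mul_assoc, ← mul_assoc]
    refine Dvd.dvd.mul_right ?_ _
    rw [pow_succ, pow_two]
    exact mul_dvd_mul (mul_dvd_mul e1 e2) e3
  rcases h7 with h7 | h7 | h7 | h7
  · exact absurd h7 fun h => key 1 h (by norm_num)
  · exact absurd h7 fun h => key 2 h (by norm_num)
  · exact Or.inl h7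
  · exact Or.inr h7

end Cfsg.Agent.H970.LB.E8
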