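import Cfsg.Agent.H307.XC.TypOne
import Cfsg.Agent.H970.LB.E8Ord
import Cfsg.Agent.CpAut.RgdUntw
import Cfsg.Agent.H439.CC.Defs

/-!
# S4879, row `E₈`: the multiplicities `⟨χ, 1_{P_J}⟩` are invariant under `Aut` (helper970)

* `mu_PJ_aut` : `a` of trivial type, `χ` a class function: `⟨χ ∘ a, 1_{P_J}⟩ = ⟨χ, 1_{P_J}⟩`;
* `mu_PE_aut` : `E₈(q)`, every automorphism.
-/

set_option autoImplicit false
set_option linter.unusedSectionVars false

namespace Cfsg.Agent.H970.LB.E8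

open CoxeterSystem Cfsg Cfsg.Agent.ChevalleyStructure.CoxeterGeom Cfsg.Agent.Tits.Roots Cfsg.Agent.Tits.Core
  Cfsg.Agent.Tits.RootComb Cfsg.Agent.Nodes.Reps Cfsg.Agent.Nodes.BNOf
  Cfsg.Agent.Nodes.StabComb Cfsg.Agent.Nodes.Bruhat Cfsg.Agent.Nodes.LeviDec Cfsg.Agent.H35.Poin
  Cfsg.Agent.H35.PoinNum Cfsg.Agent.H35.ExcIdx Cfsg.Agent.H134.StrP
  Cfsg.Agent.ChevalleyStructure.CoxeterGeomTypes Cfsg.Lie
open Cfsg.Agent.Nodes.RGDChev Cfsg.Agent.ChevalleyStructure.NPerm Cfsg.Agent.ChevalleyStructure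
open Cfsg.Agent.H116.RatB0 Cfsg.Agent.H116.StAut
open Cfsg.Agent.H439.CC (mu)

universe u

section Gen

variable {I W S : Type*} [Fintype I] [DecidableEq I] [Group W] [Finite W] [Group S] [Finite S] {Mx : CoxeterMatrix I}
  {cs : CoxeterSystem Mx W} {A : I → I → ℤ} {h : IsCartan Mx A} {r : ℕ} [Fact r.Prime] {T : Subgroup S} {n : I → S}
  {X : (I → ℤ) → Subgroup S} (R : RGD cs h r T n X)

/-- automorphisms of trivial type preserve the multiplicities of the parabolic permutation characters -/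
theorem mu_PJ_aut (hG : GG cs h T X = ⊤) (a : MulAut S) (ha : typHom R hG a = 1) {χ : S → ℂ}
    (hχ : IsClassFunction S χ) (J : Set I) :
    mu (PJ cs h T X J) (fun x => χ (a x)) = mu (PJ cs h T X J) χ := by
  classical
  have h1 := gel_spec R hG a
  have h1' : typ R hG a = 1 := ha
  rw [h1'] at h1
  set g := gel R hG a with hg
  have h2 : ∀ x : S, g⁻¹ * a x * g ∈ PJ cs h T X J ↔ x ∈ PJ cs h T X J := by
    intro x
    have h3 := h1 J x
    rwa [Equiv.Perm.coe_one, Set.image_id] at h3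
  unfold Cfsg.Agent.H439.CC.mu
  congr 1
  let e : S ≃ S := (a : S ≃* S).toEquiv.trans (MulAut.conj g⁻¹).toEquiv
  have he : ∀ x, e x = g⁻¹ * a x * g := by
    intro x
    show MulAut.conj g⁻¹ (a x) = _
    rw [MulAut.conj_apply, inv_inv]
  let e' : PJ cs h T X J ≃ PJ cs h T X J := e.subtypeEquiv fun x => by rw [he]; exact (h2 x).symm
  have h5 : ∀ x : PJ cs h T X J, χ (a x) = χ ((e' x : PJ cs h T X J) : S) := by
    intro x
    have h3 : ((e' x : PJ cs h T X J) : S) = g⁻¹ * a x * g := he x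
    have h4 := hχ (a x) g⁻¹
    rw [inv_inv] at h4
    rw [h3]
    exact h4.symm
  rw [finsum_congr h5]
  exact finsum_comp_equiv e' (f := fun y : PJ cs h T X J => χ y)

end Gen

theorem sym_E8 (σ : Equiv.Perm (Fin 8)) (hσ : ∀ i j, CoxeterMatrix.E₈ (σ i) (σ j) = CoxeterMatrix.E₈ i j) :
    σ = 1 := by
  have h1 : ∀ i, (![1, 1, 2, 3, 2, 2, 2, 1] : Fin 8 → ℕ) (σ i) = (![1, 1, 2, 3, 2, 2, 2, 1] : Fin 8 → ℕ) i :=
    CpAut.RgdUntw.inv_step hσ (g := fun _ => 1) (fun _ => rfl) (by decide)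
  have h2 : ∀ i, (![2, 3, 4, 5, 5, 4, 3, 2] : Fin 8 → ℕ) (σ i) = (![2, 3, 4, 5, 5, 4, 3, 2] : Fin 8 → ℕ) i :=
    CpAut.RgdUntw.inv_step hσ h1 (by decide)
  have h3 : ∀ i, (![4, 5, 7, 12, 9, 8, 6, 3] : Fin 8 → ℕ) (σ i) = (![4, 5, 7, 12, 9, 8, 6, 3] : Fin 8 → ℕ) i :=
    CpAut.RgdUntw.inv_step hσ h2 (by decide)
  have h4 : ∀ i j : Fin 8, (![4, 5, 7, 12, 9, 8, 6, 3] : Fin 8 → ℕ) i = (![4, 5, 7, 12, 9, 8, 6, 3] : Fin 8 → ℕ) j →
      i = j := by decide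
  ext i
  rw [Equiv.Perm.one_apply, h4 _ _ (h3 i)]

/-- **`E₈(q)`: all multiplicities of the parabolic permutation characters are invariant under `Aut`.** -/
theorem mu_PE_aut (K : Type u) [Field K] [Fintype K] (a : MulAut ↥(chevE8.group K)) {χ : ↥(chevE8.group K) → ℂ}
    (hχ : IsClassFunction _ χ) (J : Set (Fin 8)) : mu (PE K J) (fun x => χ (a x)) = mu (PE K J) χ := by
  obtain ⟨r, f, _, hr, hf, hK⟩ := exists_pow K
  have : Fact r.Prime := ⟨hr⟩
  have hfin := finite_W hpE8 CoxeterMatrix.E₈.toCoxeterSystem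
  have hfg := finite_E8 K
  have hR := rgd (K := K) hpE8 CoxeterMatrix.E₈.toCoxeterSystem r
  have hG := GG_eq_top hpE8 K CoxeterMatrix.E₈.toCoxeterSystem
  exact mu_PJ_aut hR hG a (sym_E8 _ (H307.XC.typ_matrix hR hG a)) hχ J

/-- the regular character -/
theorem mu_bot_aut {S : Type*} [Group S] (a : MulAut S) (χ : S → ℂ) :
    mu (⊥ : Subgroup S) (fun x => χ (a x)) = mu (⊥ : Subgroup S) χ := by
  unfold Cfsg.Agent.H439.CC.mu
  congr 1
  refine finsum_congr fun x => ?_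
  have h1 : (x : S) = 1 := (Subgroup.mem_bot).1 x.2
  show χ (a x) = χ x
  rw [h1, map_one]

end Cfsg.Agent.H970.LB.E8
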