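import Mathlib

/-!
# S4879, row `E₈`: transitive right actions of a Coxeter group given by a table (helper970)

* `Act cs N` : a transitive right action of `W` on `Fin N` (`sw w` = the state `o · w`), `Act.P` : the stabilizer of `o`;
* `Act.ofTab` : the action from a table of involutions satisfying the braid relations.
-/

set_option autoImplicit false
set_option linter.unusedSectionVars false

namespace Cfsg.Agent.H970.LB

open CoxeterSystem

variable {I W : Type*} [Group W] {M : CoxeterMatrix I}

/-- a transitive right action of `W` on `Fin N` -/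
structure Act (cs : CoxeterSystem M W) (N : ℕ) where
  st : I → Fin N → Fin N
  o : Fin N
  sw : W → Fin N
  sw_one : sw 1 = o
  sw_mul_simple : ∀ w i, sw (w * cs.simple i) = st i (sw w)
  surj : ∀ s, ∃ w, sw w = s

variable {cs : CoxeterSystem M W} {N : ℕ}

namespace Act

variable (t : Act cs N)

/-- the action of a word on the states -/
def zz (ω : List I) (s : Fin N) : Fin N := ω.foldl (fun b i => t.st i b) s

@[simp] theorem zz_nil (s : Fin N) : t.zz [] s = s := rfl

@[simp] theorem zz_cons (i : I) (ω : List I) (s : Fin N) : t.zz (i :: ω) s = t.zz ω (t.st i s) := rfl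

theorem zz_append (ω ω' : List I) (s : Fin N) : t.zz (ω ++ ω') s = t.zz ω' (t.zz ω s) := List.foldl_append

theorem sw_wordProd (w : W) (ω : List I) : t.sw (w * cs.wordProd ω) = t.zz ω (t.sw w) := by
  induction ω generalizing w with
  | nil => rw [wordProd_nil, mul_one, zz_nil]
  | cons i ω ih => rw [wordProd_cons, ← mul_assoc, ih, t.sw_mul_simple, zz_cons]

theorem sw_wordProd' (ω : List I) : t.sw (cs.wordProd ω) = t.zz ω t.o := by
  rw [← one_mul (cs.wordProd ω), sw_wordProd, t.sw_one]

theorem sw_congr {w w' : W} (h : t.sw w = t.sw w') (v : W) : t.sw (w * v) = t.sw (w' * v) := by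
  obtain ⟨ω, rfl⟩ := cs.wordProd_surjective v
  rw [sw_wordProd, sw_wordProd, h]

/-- the stabilizer of `o` -/
def P : Subgroup W where
  carrier := {w | t.sw w = t.o}
  mul_mem' := by
    intro a b ha hb
    show t.sw (a * b) = t.o
    have h1 : t.sw a = t.sw 1 := by rw [t.sw_one]; exact ha
    rw [t.sw_congr h1 b, one_mul]
    exact hb
  one_mem' := t.sw_one
  inv_mem' := by
    intro a ha
    show t.sw a⁻¹ = t.o
    have h1 : t.sw a = t.sw 1 := by rw [t.sw_one]; exact ha
    have h2 := t.sw_congr h1 a⁻¹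
    rw [mul_inv_cancel, one_mul, t.sw_one] at h2
    exact h2.symm

theorem mem_P {w : W} : w ∈ t.P ↔ t.sw w = t.o := Iff.rfl

theorem sw_mul_left {p : W} (hp : p ∈ t.P) (w : W) : t.sw (p * w) = t.sw w := by
  have h1 : t.sw p = t.sw 1 := by rw [t.sw_one]; exact hp
  rw [t.sw_congr h1 w, one_mul]

theorem mem_P_of_sw {w w' : W} (h : t.sw w = t.sw w') : w * w'⁻¹ ∈ t.P := by
  have h2 := t.sw_congr h w'⁻¹
  rw [mul_inv_cancel, t.sw_one] at h2
  exact h2

theorem sw_eq_iff {w w' : W} : t.sw w = t.sw w' ↔ w * w'⁻¹ ∈ t.P := by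
  refine ⟨t.mem_P_of_sw, fun h => ?_⟩
  have h1 := t.sw_mul_left h w'
  rw [inv_mul_cancel_right] at h1
  exact h1

theorem st_st (i : I) (s : Fin N) : t.st i (t.st i s) = s := by
  obtain ⟨w, rfl⟩ := t.surj s
  rw [← t.sw_mul_simple, ← t.sw_mul_simple, mul_assoc, simple_mul_simple_self, mul_one]

theorem zz_reverse (ω : List I) (s : Fin N) : t.zz ω.reverse (t.zz ω s) = s := by
  induction ω generalizing s with
  | nil => rfl
  | cons i ω ih => rw [zz_cons, List.reverse_cons, zz_append, ih, zz_cons, zz_nil, st_st]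

theorem exists_word (s : Fin N) : ∃ ω : List I, t.zz ω t.o = s := by
  obtain ⟨w, rfl⟩ := t.surj s
  obtain ⟨ω, rfl⟩ := cs.wordProd_surjective w
  exact ⟨ω, (t.sw_wordProd' ω).symm⟩

/-- the number of elements -/
theorem card [Finite W] : Nat.card W = Nat.card t.P * N := by
  have h1 : t.P.index = N := by
    have e : W ⧸ t.P ≃ Fin N := by
      refine Equiv.ofBijective (fun x => Quotient.liftOn' x (fun w => t.sw w⁻¹) fun a b hab => ?_) ⟨?_, ?_⟩
      · have h2 : a⁻¹ * b ∈ t.P := QuotientGroup.leftRel_apply.1 hab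
        show t.sw a⁻¹ = t.sw b⁻¹
        refine t.sw_eq_iff.2 ?_
        rw [inv_inv]
        exact h2
      · intro x y hxy
        induction x using QuotientGroup.induction_on with | _ a => ?_
        induction y using QuotientGroup.induction_on with | _ b => ?_
        refine QuotientGroup.eq.2 ?_
        have h3 : t.sw a⁻¹ = t.sw b⁻¹ := hxy
        have h4 := t.sw_eq_iff.1 h3
        rwa [inv_inv] at h4
      · intro s
        obtain ⟨w, hw⟩ := t.surj s
        refine ⟨(w⁻¹ : W), ?_⟩
        show t.sw (w⁻¹)⁻¹ = s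
        rw [inv_inv, hw]
    rw [Subgroup.index, Nat.card_congr e, Nat.card_fin]
  have h5 := t.P.card_mul_index
  rw [h1] at h5
  exact h5.symm

end Act

section OfTab

variable (cs)

/-- alternating words act -/
theorem iterate_eq {N : ℕ} (f g : Equiv.Perm (Fin N)) (n : ℕ) (h : ∀ s, (fun s => g (f s))^[n] s = s) : (g * f) ^ n = 1 := by
  ext s
  rw [← Equiv.Perm.iterate_eq_pow]
  exact congrArg _ (h s)

/-- **The action from a table.** -/
noncomputable def Act.ofTab {N : ℕ} (st : I → Fin N → Fin N) (o : Fin N) (h2 : ∀ i s, st i (st i s) = s)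
    (hbr : ∀ i j s, (fun s => st i (st j s))^[M i j] s = s) (hp : ∀ s, ∃ ω : List I, ω.foldl (fun b i => st i b) o = s) :
    Act cs N :=
  let g : I → Equiv.Perm (Fin N) := fun i => ⟨st i, st i, h2 i, h2 i⟩
  let ρ : W →* Equiv.Perm (Fin N) := cs.lift ⟨g, fun i j => iterate_eq (g j) (g i) (M i j) (hbr i j)⟩
  have hρ : ∀ i, ρ (cs.simple i) = g i := fun i => cs.lift_apply_simple _ i
  have hw : ∀ ω : List I, ∀ s, (ρ (cs.wordProd ω))⁻¹ s = ω.foldl (fun b i => st i b) s := by
    intro ω
    induction ω with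
    | nil => intro s; rw [wordProd_nil, map_one, inv_one]; rfl
    | cons i ω ih =>
      intro s
      rw [wordProd_cons, map_mul, mul_inv_rev, Equiv.Perm.mul_apply, ih, hρ]
      rfl
  { st := st
    o := o
    sw := fun w => (ρ w)⁻¹ o
    sw_one := by rw [map_one, inv_one]; rfl
    sw_mul_simple := by
      intro w i
      rw [map_mul, mul_inv_rev, Equiv.Perm.mul_apply, hρ]
      rfl
    surj := by
      intro s
      obtain ⟨ω, hω⟩ := hp s
      exact ⟨cs.wordProd ω, (hw ω o).trans hω⟩ }

end OfTab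

end Cfsg.Agent.H970.LB
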